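import Groth.Agent.RegDVR.Basic

/-!
Forms vanishing on a weakly regular sequence are combinations of the linear relations.
-/

set_option autoImplicit false
universe u
open MvPolynomial

namespace Groth.Agent.RRAlg86

open Groth.Agent.RegDVR Groth.Agent.RegLoc.AdicNoeth

variable {A : Type u} [CommRing A]

/-- The ideal of linear relations. -/
noncomputable def L {n : ℕ} (a : Fin n → A) : Ideal (MvPolynomial (Fin n) A) :=
  Ideal.span {q | ∃ i j : Fin n, q = C (a i) * X j - C (a j) * X i}

theorem div_pow {r : ℕ} {a' : Fin r → A} (hq : QR a') {x : A}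
    (hreg : ∀ c : A, x * c ∈ Ideal.span (Set.range a') → c ∈ Ideal.span (Set.range a')) :
    ∀ (t : ℕ) (c : A), x * c ∈ Ideal.span (Set.range a') ^ t → c ∈ Ideal.span (Set.range a') ^ t := by
  intro t
  induction t with
  | zero => intro c _; rw [pow_zero, Ideal.one_eq_top]; trivial
  | succ t ih =>
    intro c hc
    obtain ⟨H, hH, rfl⟩ := (Ideal.mem_span_pow_iff_exists_isHomogeneous a' _).mp
      (ih c (Ideal.pow_le_pow_right t.le_succ hc))
    have h0 := QR.of_mem_pow (hq t) (hH.C_mul x) (by rw [map_mul, eval_C]; exact hc)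
    refine mem_pow_succ_of_coeff_mem a' hH fun d => hreg _ ?_
    have h1 := congrArg (coeff d) h0
    rwa [coeff_map, coeff_C_mul, coeff_zero, Ideal.Quotient.eq_zero_iff_mem] at h1

theorem split_var {r m : ℕ} (F : MvPolynomial (Fin (r + 1)) A) (hF : F.IsHomogeneous (m + 1)) :
    ∃ (F₀ : MvPolynomial (Fin r) A) (H : MvPolynomial (Fin (r + 1)) A), F₀.IsHomogeneous (m + 1) ∧
      H.IsHomogeneous m ∧ F = rename Fin.castSucc F₀ + H * X (Fin.last r) := by
  classical
  let s : Fin (r + 1) → MvPolynomial (Fin r) A := Fin.snoc X 0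
  have hs : ∀ i, (s i).IsHomogeneous 1 := fun i => by
    induction i using Fin.lastCases with
    | last => simp only [s, Fin.snoc_last]; exact isHomogeneous_zero _ _ _
    | cast j => simp only [s, Fin.snoc_castSucc]; exact isHomogeneous_X _ _
  have hF₀ : (aeval s F).IsHomogeneous (m + 1) := by
    have := hF.aeval s hs
    rwa [one_mul] at this
  have hdvd : F - rename Fin.castSucc (aeval s F) ∈
      Ideal.span {(X (Fin.last r) : MvPolynomial (Fin (r + 1)) A)} := by
    rw [← Ideal.Quotient.eq]
    have e : (Ideal.Quotient.mkₐ A (Ideal.span {(X (Fin.last r) : MvPolynomial (Fin (r + 1)) A)})).comp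
        ((rename Fin.castSucc).comp (aeval s)) = Ideal.Quotient.mkₐ A _ := by
      refine algHom_ext fun i => ?_
      induction i using Fin.lastCases with
      | last => simp [s, Ideal.Quotient.eq_zero_iff_mem.mpr (Ideal.mem_span_singleton_self _)]
      | cast j => simp [s]
    exact (AlgHom.congr_fun e F).symm
  obtain ⟨H₀, hH₀⟩ := Ideal.mem_span_singleton'.mp hdvd
  refine ⟨_, homogeneousComponent m H₀, hF₀, homogeneousComponent_isHomogeneous _ _, ?_⟩
  have h1 := congrArg (homogeneousComponent (m + 1)) hH₀
  rw [map_sub, homogeneousComponent_of_mem hF, homogeneousComponent_of_mem hF₀.rename_isHomogeneous,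
    if_pos rfl, if_pos rfl,
    homogeneousComponent_mul_of_isHomogeneous (isHomogeneous_X A (Fin.last r))] at h1
  simp only [le_add_iff_nonneg_left, zero_le, if_true, Nat.add_sub_cancel] at h1
  rw [h1, add_sub_cancel]

theorem mem_L : ∀ {n : ℕ} (a : Fin n → A), RingTheory.Sequence.IsWeaklyRegular A (List.ofFn a) →
    ∀ (m : ℕ) (F : MvPolynomial (Fin n) A), F.IsHomogeneous m → eval a F = 0 → F ∈ L a
  | 0, a, _ => fun m F _ h0 => by
    obtain ⟨c, rfl⟩ := C_surjective (Fin 0) F
    rw [eval_C] at h0
    rw [h0, map_zero]
    exact Ideal.zero_mem _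
  | r + 1, a, h => by
    classical
    rw [List.ofFn_succ', List.concat_eq_append, RingTheory.Sequence.isWeaklyRegular_append_iff] at h
    let a' : Fin r → A := a ∘ Fin.castSucc
    let x := a (Fin.last r)
    have hq : QR a' := qr_of_weaklyRegular _ h.1
    have hreg : ∀ c : A, x * c ∈ Ideal.span (Set.range a') → c ∈ Ideal.span (Set.range a') := by
      intro c hc
      have h2 := ((RingTheory.Sequence.isWeaklyRegular_singleton_iff _ _).mp h.2)
      have hI : (Ideal.ofList (List.ofFn fun i => a i.castSucc) • ⊤ : Submodule A A) =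
          Ideal.span (Set.range a') := by
        simp [Ideal.ofList, Ideal.mul_top, List.mem_ofFn]
        rfl
      rw [← hI] at hc ⊢
      rw [← Submodule.Quotient.mk_eq_zero]
      refine h2 ?_
      show a (Fin.last r) • Submodule.Quotient.mk c = a (Fin.last r) • _
      rw [smul_zero, ← Submodule.Quotient.mk_smul, Submodule.Quotient.mk_eq_zero]
      exact hc
    have hL' : ∀ G ∈ L a', rename Fin.castSucc G ∈ L a := by
      intro G hG
      have : L a' ≤ (L a).comap (rename Fin.castSucc) := by
        rw [L, Ideal.span_le]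
        rintro _ ⟨i, j, rfl⟩
        simp only [SetLike.mem_coe, Ideal.mem_comap, map_sub, map_mul, rename_C, rename_X]
        exact Ideal.subset_span ⟨i.castSucc, j.castSucc, rfl⟩
      exact this hG
    intro m
    induction m with
    | zero =>
      intro F hF h0
      have hc := (homogeneousComponent_of_mem hF (m := 0)).trans (if_pos rfl)
      rw [homogeneousComponent_zero] at hc
      rw [← hc, eval_C] at h0
      rw [← hc, h0, map_zero]
      exact Ideal.zero_mem _
    | succ m ih =>
      intro F hF h0
      obtain ⟨F₀, H, hF₀, hH, hdec⟩ := split_var F hF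
      have hev : eval a' F₀ + x * eval a H = 0 := by
        have := congrArg (eval a) hdec
        rw [h0, map_add, map_mul, eval_rename, eval_X, mul_comm] at this
        exact this.symm
      have hHm : eval a H ∈ Ideal.span (Set.range a') ^ (m + 1) := by
        refine div_pow hq hreg _ _ ?_
        rw [eq_neg_of_add_eq_zero_right hev]
        exact neg_mem (mem_pow_of_isHomogeneous a' hF₀)
      rw [pow_succ] at hHm
      obtain ⟨c, hc⟩ : ∃ c : Fin r → A, (∀ j, c j ∈ Ideal.span (Set.range a') ^ m) ∧
          ∑ j, c j * a' j = eval a H := by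
        clear hev
        refine Submodule.mul_induction_on hHm (fun w hw v hv => ?_) ?_
        · obtain ⟨e, rfl⟩ := Ideal.mem_span_range_iff_exists_fun.mp hv
          refine ⟨fun j => w * e j, fun j => Ideal.mul_mem_right _ _ hw, ?_⟩
          rw [Finset.mul_sum]
          exact Finset.sum_congr rfl fun j _ => by ring
        · rintro p q ⟨c, hc, rfl⟩ ⟨d, hd, rfl⟩
          exact ⟨c + d, fun j => add_mem (hc j) (hd j), by simp [add_mul, Finset.sum_add_distrib]⟩
      choose g hh hhc using fun j => (Ideal.mem_span_pow_iff_exists_isHomogeneous a' _).mp (hc.1 j)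
      let S : MvPolynomial (Fin r) A := ∑ j, X j * g j
      have hS : S.IsHomogeneous (m + 1) :=
        IsHomogeneous.sum _ _ _ fun j _ => by
          rw [add_comm]; exact (isHomogeneous_X A j).mul (hh j)
      have hSe : eval a' S = eval a H := by
        rw [← hc.2]; simp [S, hhc, mul_comm]
      have h1 : F₀ + C x * S ∈ L a' :=
        mem_L a' h.1 (m + 1) _ (hF₀.add (hS.C_mul x)) (by rw [map_add, map_mul, eval_C, hSe, hev])
      have h2 : H - ∑ j, C (a' j) * rename Fin.castSucc (g j) ∈ L a := by
        refine ih _ (hH.sub (IsHomogeneous.sum _ _ _ fun j _ => ((hh j).rename_isHomogeneous).C_mul _)) ?_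
        rw [map_sub, map_sum, ← hc.2, sub_eq_zero]
        refine Finset.sum_congr rfl fun j _ => ?_
        rw [map_mul, eval_C, eval_rename]
        exact (mul_comm _ _).trans (by rw [← hhc j])
      have e : F = rename Fin.castSucc (F₀ + C x * S) +
          (H - ∑ j, C (a' j) * rename Fin.castSucc (g j)) * X (Fin.last r) +
          ∑ j, rename Fin.castSucc (g j) * (C (a' j) * X (Fin.last r) - C x * X j.castSucc) := by
        rw [hdec]
        simp only [S, map_add, map_mul, map_sum, rename_C, rename_X, Finset.mul_sum, sub_mul, Finset.sum_mul,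
          mul_sub, Finset.sum_sub_distrib]
        have e1 : ∀ j : Fin r, C x * (X j.castSucc * rename Fin.castSucc (g j)) =
            rename Fin.castSucc (g j) * (C x * X j.castSucc) := fun j => by ring
        have e2 : ∀ j : Fin r, C (a' j) * rename Fin.castSucc (g j) * X (Fin.last r) =
            rename Fin.castSucc (g j) * (C (a' j) * X (Fin.last r)) := fun j => by ring
        simp only [e1, e2]
        ring
      rw [e]
      exact add_mem (add_mem (hL' _ h1) (Ideal.mul_mem_right _ _ h2))
        (Ideal.sum_mem _ fun j _ => Ideal.mul_mem_left _ _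
          (Ideal.subset_span ⟨j.castSucc, Fin.last r, rfl⟩))

theorem aeval_scale {σ : Type*} (a : σ → A) {m : ℕ} {G : MvPolynomial σ A} (hG : G.IsHomogeneous m) :
    aeval (fun i => Polynomial.C (a i) * (Polynomial.X : Polynomial A)) G =
      Polynomial.C (eval a G) * Polynomial.X ^ m := by
  rw [aeval_def, eval₂_eq, eval_eq, map_sum, Finset.sum_mul]
  refine Finset.sum_congr rfl fun d hd => ?_
  have hdeg : ∑ i ∈ d.support, d i = m := by
    have := hG (mem_support_iff.mp hd)
    rw [← this, Finsupp.weight_apply]
    simp [Finsupp.sum]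
  simp only [mul_pow, Finset.prod_mul_distrib, Finset.prod_pow_eq_pow_sum, hdeg, map_mul, map_prod, map_pow,
    Polynomial.algebraMap_eq]
  ring

theorem ker_rees {n : ℕ} (a : Fin n → A) (ha : RingTheory.Sequence.IsWeaklyRegular A (List.ofFn a)) :
    RingHom.ker (aeval (R := A) (fun i : Fin n => Polynomial.C (a i) * (Polynomial.X : Polynomial A))) =
      L a := by
  classical
  refine le_antisymm (fun F hF => ?_) ?_
  · rw [RingHom.mem_ker] at hF
    rw [← sum_homogeneousComponent F] at hF ⊢
    refine Ideal.sum_mem _ fun m hm => mem_L a ha m _ (homogeneousComponent_isHomogeneous m F) ?_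
    rw [map_sum] at hF
    have := congrArg (fun p => Polynomial.coeff p m) hF
    simp only [Polynomial.finsetSum_coeff, aeval_scale a (homogeneousComponent_isHomogeneous _ F),
      Polynomial.coeff_C_mul, Polynomial.coeff_X_pow, mul_ite, mul_one, mul_zero, Finset.sum_ite_eq,
      if_pos hm, Polynomial.coeff_zero] at this
    exact this
  · rw [L, Ideal.span_le]
    rintro _ ⟨i, j, rfl⟩
    simp only [SetLike.mem_coe, RingHom.mem_ker, map_sub, map_mul, aeval_C, aeval_X, Polynomial.algebraMap_eq]
    ring

theorem ker_blowup {n : ℕ} (a : Fin (n + 1) → A)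
    (ha : RingTheory.Sequence.IsWeaklyRegular A (List.ofFn a)) :
    RingHom.ker (aeval (R := A) (S₁ := Localization.Away (a 0))
      (fun i : Fin n => IsLocalization.mk' (Localization.Away (a 0)) (a i.succ)
        (⟨a 0, Submonoid.mem_powers (a 0)⟩ : Submonoid.powers (a 0)))) =
      Ideal.span (Set.range fun i : Fin n => C (a 0) * X i - C (a i.succ)) := by
  classical
  set J : Ideal (MvPolynomial (Fin n) A) :=
    Ideal.span (Set.range fun i : Fin n => C (a 0) * X i - C (a i.succ))
  set R := Localization.Away (a 0)
  set q : Fin n → R := fun i => IsLocalization.mk' R (a i.succ) (⟨a 0, Submonoid.mem_powers (a 0)⟩ : Submonoid.powers (a 0))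
  have hspec : ∀ i, algebraMap A R (a 0) * q i = algebraMap A R (a i.succ) := fun i =>
    IsLocalization.mk'_spec' R _ _
  refine le_antisymm (fun F hF => ?_) ?_
  · rw [RingHom.mem_ker] at hF
    let d := F.totalDegree
    let G : MvPolynomial (Fin (n + 1)) A :=
      ∑ m ∈ Finset.range (d + 1), rename Fin.succ (homogeneousComponent m F) * X 0 ^ (d - m)
    have hG : G.IsHomogeneous d := IsHomogeneous.sum _ _ _ fun m hm => by
      have h1 := ((homogeneousComponent_isHomogeneous m F).rename_isHomogeneous (f := Fin.succ)).mul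
        ((isHomogeneous_X A (0 : Fin (n + 1))).pow (d - m))
      have h2 : m + 1 * (d - m) = d := by have := Finset.mem_range.mp hm; omega
      rwa [h2] at h1
    -- evaluation at `a`
    have hreg0 : ∀ c : A, a 0 * c = 0 → c = 0 := by
      intro c hc
      rw [List.ofFn_succ, RingTheory.Sequence.isWeaklyRegular_cons_iff] at ha
      exact ha.1 (by simpa using hc)
    have hev : algebraMap A R (eval a G) = algebraMap A R (a 0) ^ d * aeval q F := by
      have hq : ∀ {m : ℕ} {P : MvPolynomial (Fin n) A}, P.IsHomogeneous m →
          algebraMap A R (eval (a ∘ Fin.succ) P) = algebraMap A R (a 0) ^ m * aeval q P := by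
        intro m P hP
        rw [aeval_def, eval₂_eq, eval_eq, map_sum, Finset.mul_sum]
        refine Finset.sum_congr rfl fun e he => ?_
        have hdeg : ∑ i ∈ e.support, e i = m := by
          have := hP (mem_support_iff.mp he)
          rw [← this, Finsupp.weight_apply]
          simp [Finsupp.sum]
        simp only [Function.comp_apply, map_mul, map_prod, map_pow, ← hspec, mul_pow, Finset.prod_mul_distrib,
          Finset.prod_pow_eq_pow_sum, hdeg]
        ring
      conv_rhs => rw [← sum_homogeneousComponent F]
      simp only [G, map_sum, map_mul, map_pow, eval_rename, eval_X, Finset.mul_sum]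
      refine Finset.sum_congr rfl fun m hm => ?_
      have h2 : m + (d - m) = d := by have := Finset.mem_range.mp hm; omega
      rw [hq (homogeneousComponent_isHomogeneous m F)]
      conv_rhs => rw [← h2]
      rw [pow_add]
      ring
    rw [hF, mul_zero, IsLocalization.map_eq_zero_iff (Submonoid.powers (a 0))] at hev
    obtain ⟨⟨_, k, rfl⟩, hk⟩ := hev
    have hG0 : eval a G = 0 := by
      have : ∀ k : ℕ, ∀ c : A, a 0 ^ k * c = 0 → c = 0 := by
        intro k
        induction k with
        | zero => intro c h; simpa using h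
        | succ k ih => intro c h; exact ih c (hreg0 _ (by rw [← mul_assoc, ← pow_succ']; exact h))
      exact this k _ hk
    let δ : MvPolynomial (Fin (n + 1)) A →ₐ[A] MvPolynomial (Fin n) A := aeval (Fin.cons 1 X)
    have hδG : δ G = F := by
      conv_rhs => rw [← sum_homogeneousComponent F]
      simp only [G, δ, map_sum, map_mul, map_pow, aeval_X, Fin.cons_zero, one_pow, mul_one, aeval_rename]
      refine Finset.sum_congr rfl fun m _ => ?_
      rw [show (Fin.cons 1 X : Fin (n + 1) → MvPolynomial (Fin n) A) ∘ Fin.succ = X from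
        funext fun i => by simp, aeval_X_left, AlgHom.id_apply]
    have hLJ : L a ≤ J.comap δ := by
      rw [L, Ideal.span_le]
      rintro _ ⟨i, j, rfl⟩
      have key : ∀ i : Fin (n + 1), C (a 0) * δ (X i) - C (a i) ∈ J := by
        intro i
        refine Fin.cases ?_ (fun i => ?_) i
        · simp [δ]
        · simp only [δ, aeval_X, Fin.cons_succ]
          exact Ideal.subset_span ⟨i, rfl⟩
      simp only [SetLike.mem_coe, Ideal.mem_comap, map_sub, map_mul, show ∀ c, δ (C c) = C c from δ.commutes]
      have e : C (a i) * δ (X j) - C (a j) * δ (X i) =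
          δ (X i) * (C (a 0) * δ (X j) - C (a j)) - δ (X j) * (C (a 0) * δ (X i) - C (a i)) := by ring
      rw [e]
      exact sub_mem (Ideal.mul_mem_left _ _ (key j)) (Ideal.mul_mem_left _ _ (key i))
    rw [← hδG]
    exact hLJ (mem_L a ha d G hG hG0)
  · rw [Ideal.span_le]
    rintro _ ⟨i, rfl⟩
    simp only [SetLike.mem_coe, RingHom.mem_ker, map_sub, map_mul, aeval_C, aeval_X]
    exact sub_eq_zero.mpr (hspec i)

end Groth.Agent.RRAlg86
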